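import Cfsg.Agent.Mrg.RankTwoClose.XSide.Mat
import Cfsg.Agent.Mrg.RankTwoClose.QIn
import Cfsg.Agent.Mrg.RankTwoClose.UFive.LTor

section


/-!
# The group `X = ⟨Q, Q'⟩` (type beta): `X` as a rank one group

`CQ = C_Q(V)`, `CQ' = C_{Q'}(V)`, `OX = CQ CQ'`, `UX = Q CQ'`.  `C_X(V) = OX`; `X` is a rank one group
(`PanOf.Abs`) with `O₂(X) = OX` and Sylow `2`-subgroup `UX`.
-/

set_option autoImplicit false
set_option linter.unusedSectionVars false

open Subgroup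

namespace Cfsg.Agent.RankTwoClose.XSide

open Cfsg.Agent.Omega.NOne.SU Cfsg.Agent.RankTwoClose.UFour

variable {G : Type*} [Group G] {k F : Type*} [Field k] [Field F] [Algebra k F]

/-- `O₂(X)` -/
abbrev OX (V Q Q' : Subgroup G) : Subgroup G :=
  (Q ⊓ centralizer (V : Set G)) ⊔ (Q' ⊓ centralizer (V : Set G))

/-- the Sylow `2`-subgroup of `X` -/
abbrev UX (V Q Q' : Subgroup G) : Subgroup G := Q ⊔ (Q' ⊓ centralizer (V : Set G))

section basic

variable {T : Quad k F} {S : Sylow 2 G} {V R Q Q' : Subgroup G} {v : k → F → k → G} {p p' : G → F}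
  (I : GIn T S V R Q Q' v p p')
include I

theorem CV_norm_Q : centralizer (V : Set G) ≤ normalizer (Q : Set G) := by
  intro c hc
  rw [mem_normalizer_iff]
  intro y
  refine ⟨CV_Q I hc, fun h => ?_⟩
  have := CV_Q I (inv_mem hc) h
  rwa [show c⁻¹ * (c * y * c⁻¹) * c⁻¹⁻¹ = y by group] at this

theorem mem_UX {u : G} : u ∈ UX V Q Q' ↔ ∃ y ∈ Q, ∃ b ∈ Q' ⊓ centralizer (V : Set G), u = y * b := by
  constructor
  · intro hu
    have hu' : u ∈ (Q' ⊓ centralizer (V : Set G)) ⊔ Q := by rw [sup_comm]; exact hu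
    obtain ⟨b, hb, y, hy, rfl⟩ := mem_sup_norm (inf_le_right.trans (CV_norm_Q I)) hu'
    exact ⟨b * y * b⁻¹, CV_Q I (mem_inf.1 hb).2 hy, b, hb, by group⟩
  · rintro ⟨y, hy, b, hb, rfl⟩
    exact mul_mem (mem_sup_left hy) (mem_sup_right hb)

theorem CQ'_norm : Q' ⊓ centralizer (V : Set G) ≤
    normalizer ((Q ⊓ centralizer (V : Set G) : Subgroup G) : Set G) := fun b hb =>
  norm_inf (CV_norm_Q I (mem_inf.1 hb).2) (le_normalizer (mem_inf.1 hb).2)

theorem mem_OX {u : G} : u ∈ OX V Q Q' ↔ ∃ a ∈ Q ⊓ centralizer (V : Set G),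
    ∃ b ∈ Q' ⊓ centralizer (V : Set G), u = a * b := by
  constructor
  · intro hu
    have hu' : u ∈ (Q' ⊓ centralizer (V : Set G)) ⊔ (Q ⊓ centralizer (V : Set G)) := by
      rw [sup_comm]; exact hu
    obtain ⟨b, hb, y, hy, rfl⟩ := mem_sup_norm (CQ'_norm I) hu'
    exact ⟨b * y * b⁻¹, conj_mem (CQ'_norm I hb) hy, b, hb, by group⟩
  · rintro ⟨y, hy, b, hb, rfl⟩
    exact mul_mem (mem_sup_left hy) (mem_sup_right hb)

theorem OX_le_UX : OX V Q Q' ≤ UX V Q Q' := sup_le_sup_right inf_le_left _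

theorem OX_le_CV : OX V Q Q' ≤ centralizer (V : Set G) := sup_le inf_le_right inf_le_right

theorem V_le_OX : V ≤ OX V Q Q' := by
  intro z hz
  obtain ⟨e, he, e', he', h1, h2, rfl⟩ := split_V I hz
  exact mul_mem (mem_sup_left (mem_inf.2 ⟨he, I.V_CV h1⟩)) (mem_sup_right (mem_inf.2 ⟨he', I.V_CV h2⟩))

theorem UX_le_X : UX V Q Q' ≤ Q ⊔ Q' := sup_le_sup_left inf_le_left _

theorem UX_le_NR : UX V Q Q' ≤ normalizer (R : Set G) :=
  sup_le I.Q_NR (inf_le_right.trans (CV_NR I))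

/-- `C_U(V) = OX` -/
theorem mem_OX_of {u : G} (hu : u ∈ UX V Q Q') (hV : u ∈ centralizer (V : Set G)) : u ∈ OX V Q Q' := by
  obtain ⟨y, hy, b, hb, rfl⟩ := (mem_UX I).1 hu
  have h1 : y ∈ centralizer (V : Set G) := by
    have := mul_mem hV (inv_mem (mem_inf.1 hb).2)
    rwa [mul_inv_cancel_right] at this
  exact mul_mem (mem_sup_left (mem_inf.2 ⟨hy, h1⟩)) (mem_sup_right hb)

end basic

section out

variable {T : Quad k F} {S : Sylow 2 G} {V R Q Q' : Subgroup G} {v : k → F → k → G} {p p' : G → F}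
  {Φ : Type*} [AddCommGroup Φ] [Module F Φ] {φ χ : G → Φ}
  (I : GIn T S V R Q Q' v p p') (D : Fld T V R Q Q' v p φ χ) (Ex : Ext V R Q Q' p')

theorem X_OX [Finite G] (I : GIn T S V R Q Q' v p p') (D : Fld T V R Q Q' v p φ χ)
    (Ex : Ext V R Q Q' p') : Q ⊔ Q' ≤ normalizer ((OX V Q Q' : Subgroup G) : Set G) := by
  intro x hx
  refine Central.mem_norm_of fun u hu => ?_
  obtain ⟨a, ha, b, hb, rfl⟩ := (mem_OX I).1 hu
  obtain ⟨A, -, -, hA⟩ := exists_mat I D Ex hx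
  obtain ⟨a', ha', haV', b', hb', hbV', z, hz, e, -, -⟩ :=
    hA a (mem_inf.1 ha).1 (mem_inf.1 ha).2 b (mem_inf.1 hb).1 (mem_inf.1 hb).2
  rw [e]
  exact mul_mem (V_le_OX I hz) (mul_mem (mem_sup_left (mem_inf.2 ⟨ha', haV'⟩))
    (mem_sup_right (mem_inf.2 ⟨hb', hbV'⟩)))

/-- **`C_X(V) ≤ O₂(X)`** -/
theorem CX_le [Finite G] {hm : Φ → Φ → F} {W : Type*} [AddCommGroup W] [Module F W] {w : G → W}
    {g : W → W → F} {f₀ : W} {ι : Φ →ₗ[F] W} (O : Out T V R Q Q' v p φ χ hm w g f₀ ι)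
    (I : GIn T S V R Q Q' v p p') (D : Fld T V R Q Q' v p φ χ) (Ex : Ext V R Q Q' p') {x : G}
    (hx : x ∈ Q ⊔ Q') (hxV : x ∈ centralizer (V : Set G)) : x ∈ OX V Q Q' := by
  obtain ⟨A, hd, hA1, hA2⟩ := exists_mat I D Ex hx
  obtain rfl := VAct.eq_one I hA1 hd hxV
  have hxR : x ∈ centralizer (R : Set G) := I.CV_le_CR hxV
  have hxN := I.CR_NR hxR
  have hfix : ∀ z ∈ V, x * z * x⁻¹ = z := fun z hz => by
    rw [← mem_centralizer_iff.1 hxV z hz]; group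
  obtain ⟨n, hn, hnV, d, y, hy, e⟩ := O.rad x hxR (fun b => by rw [hfix _ (I.v_mem _ _ _)])
    (fun a ha h0 => by
      rw [← O.p_eq a ha] at h0
      have haV := (I.p_eq_zero ha).1 h0
      obtain ⟨a', ha', haV', b', hb', hbV', z, hz, e, e1, e2⟩ := hA2 a ha haV 1 (one_mem _) (one_mem _)
      have hc : x * a * x⁻¹ ∈ Q := I.nor x hxN a ha
      have hcV : x * a * x⁻¹ ∈ centralizer (V : Set G) := mul_mem (mul_mem hxV haV) (inv_mem hxV)
      obtain ⟨h1, -⟩ := φχ_congr I D hc hcV ha' haV' (one_mem _) (one_mem _) hb' hbV' hz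
        (by rw [mul_one, ← e, mul_one])
      rw [e1] at h1
      simp only [Matrix.one_apply_eq, one_smul, χ_one I D, smul_zero, add_zero] at h1
      have h2 : x * a * x⁻¹ * a⁻¹ ∈ Q := mul_mem hc (inv_mem ha)
      have h3 : x * a * x⁻¹ * a⁻¹ ∈ centralizer (V : Set G) := mul_mem hcV (inv_mem haV)
      have h4 : φ (x * a * x⁻¹ * a⁻¹) = 0 := by
        rw [D.φ_add _ hc hcV _ (inv_mem ha) (inv_mem haV), φ_inv I D ha haV, h1]
        nth_rewrite 1 [← neg_Φ I D (φ a)]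
        exact neg_add_cancel _
      obtain ⟨a'', b'', e3⟩ := (D.φ_ker _ h2 h3).1 h4
      refine ⟨b'', ?_⟩
      have e4 : x * a * x⁻¹ = v a'' b'' 0 * a := by rw [← e3]; group
      rw [e4, O.w_mul _ (I.E_le _ _) _ ha, O.w_v I, O.w_e b'', add_comm])
    (fun a ha => by
      have hc : x * a * x⁻¹ ∈ Q := I.nor x hxN a ha
      rw [← O.p_eq a ha, ← O.p_eq _ hc]
      have h1 : x * a * x⁻¹ * a⁻¹ ∈ centralizer (V : Set G) := by
        have e5 : x * a * x⁻¹ * a⁻¹ = x * (a * x⁻¹ * a⁻¹) := by group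
        rw [e5]
        exact mul_mem hxV (cen_conj I (I.Q_NV ha) (inv_mem hxV))
      have h2 := (I.p_eq_zero (mul_mem hc (inv_mem ha))).2 h1
      rw [I.p_add _ hc _ (inv_mem ha), I.p_inv ha] at h2
      calc p (x * a * x⁻¹) = p (x * a * x⁻¹) + (p a + p a) := by
            rw [T.add_self (h2 := I.h2), add_zero]
        _ = (p (x * a * x⁻¹) + p a) + p a := by ring
        _ = p a := by rw [h2, zero_add])
  have hyV : y ∈ centralizer (V : Set G) := by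
    have : y = (n * v 0 0 d)⁻¹ * x := by rw [e]; group
    rw [this]
    exact mul_mem (inv_mem (mul_mem hnV (I.V_CV (I.v_mem _ _ _)))) hxV
  rw [e]
  exact mul_mem (mul_mem (mem_sup_right (mem_inf.2 ⟨hn, hnV⟩)) (V_le_OX I (I.v_mem _ _ _)))
    (mem_sup_left (mem_inf.2 ⟨hy, hyV⟩))

end out

end Cfsg.Agent.RankTwoClose.XSide

end

section


/-!
# The group `X = ⟨Q, Q'⟩` (type beta): the points, the reflection `m₀`
-/

set_option autoImplicit false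
set_option linter.unusedSectionVars false

open Subgroup

namespace Cfsg.Agent.RankTwoClose.XSide

open Cfsg.Agent.Omega.NOne.SU Cfsg.Agent.RankTwoClose.UFour

variable {G : Type*} [Group G] {k F : Type*} [Field k] [Field F] [Algebra k F]

/-- The reflection. -/
structure Mz (T : Quad k F) (v : k → F → k → G) (Q Q' : Subgroup G) (m₀ : G) : Prop where
  mem : m₀ ∈ Q ⊔ Q'
  act : ∀ a b d, m₀ * v a b d * m₀⁻¹ = v d (T.sg b) a

section gin

variable {T : Quad k F} {S : Sylow 2 G} {V R Q Q' : Subgroup G} {v : k → F → k → G} {p p' : G → F}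
  (I : GIn T S V R Q Q' v p p')

theorem exists_mz (I : GIn T S V R Q Q' v p p') (Ex : Ext V R Q Q' p') : ∃ m₀, Mz T v Q Q' m₀ := by
  obtain ⟨y, hy, hpy⟩ := I.p_surj 1
  obtain ⟨z, hz, hpz⟩ := Ex.p'_surj 1
  refine ⟨y * z * y, mul_mem (mul_mem (mem_sup_left hy) (mem_sup_right hz)) (mem_sup_left hy), ?_⟩
  intro a b d
  have h1 := ((VAct_Q I hy).mul (VAct_Q' I hz)).mul (VAct_Q I hy)
  obtain ⟨a', b', d', e1, e2⟩ := h1 a b d
  rw [e1]
  rw [hpy, hpz] at e2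
  unfold mu st at e2
  have h2 := I.h2
  have two := T.twoF h2
  have e3 := congrFun (congrFun e2 0) 0
  have e4 := congrFun (congrFun e2 0) 1
  have e5 := congrFun (congrFun e2 1) 1
  have o2 : (1 : F) + 1 = 0 := T.add_self (h2 := h2) 1
  simp [Matrix.mul_apply, Fin.sum_univ_two, o2] at e3 e4 e5
  rw [e3, e4, e5]

variable {m₀ : G} (M : Mz T v Q Q' m₀)
include I M

theorem Mz.inv_act (a : k) (b : F) (d : k) : m₀⁻¹ * v a b d * m₀ = v d (T.sg b) a := by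
  have _ := I.h2
  have h := M.act d (T.sg b) a
  rw [T.sg_sg] at h
  rw [← h]; group

theorem Mz.NV : m₀ ∈ normalizer (V : Set G) := X_NV I M.mem

/-- `m₀² ∈ C(V)` -/
theorem Mz.sq : m₀ * m₀ ∈ centralizer (V : Set G) := by
  rw [mem_centralizer_iff]
  intro z hz
  obtain ⟨a, b, d, rfl⟩ := I.v_surj z hz
  have h1 : (m₀ * m₀) * v a b d * (m₀ * m₀)⁻¹ = v a b d := by
    calc (m₀ * m₀) * v a b d * (m₀ * m₀)⁻¹ = m₀ * (m₀ * v a b d * m₀⁻¹) * m₀⁻¹ := by group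
      _ = v a b d := by rw [M.act, M.act, T.sg_sg]
  calc v a b d * (m₀ * m₀) = (m₀ * m₀) * v a b d * (m₀ * m₀)⁻¹ * (m₀ * m₀) := by rw [h1]
    _ = _ := by group

/-- `m₀` does not normalise `R` -/
theorem Mz.not_NR : m₀ ∉ normalizer (R : Set G) := by
  intro h
  have h1 := (mem_normalizer_iff.1 h _).1 (I.sp.a_mem 1)
  rw [M.act] at h1
  obtain ⟨a, e⟩ := I.mem_R.1 h1
  exact one_ne_zero (I.v_eq e).2.2

omit M in
/-- the normaliser of `R` in `N(V)`, elementwise -/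
theorem mem_NR_of {x : G} (h : ∀ a, ∃ a', x * v a 0 0 * x⁻¹ = v a' 0 0) : x ∈ normalizer (R : Set G) := by
  have := T.fink
  have h1 : ∀ r ∈ R, x * r * x⁻¹ ∈ R := by
    intro r hr
    obtain ⟨a, rfl⟩ := I.mem_R.1 hr
    obtain ⟨a', e⟩ := h a
    rw [e]; exact I.sp.a_mem a'
  have hfin : Finite R := by
    have hs : Function.Surjective (fun a : k => (⟨v a 0 0, I.sp.a_mem a⟩ : R)) := by
      rintro ⟨r, hr⟩
      obtain ⟨a, rfl⟩ := I.mem_R.1 hr
      exact ⟨a, rfl⟩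
    exact Finite.of_surjective _ hs
  let f : R → R := fun r => ⟨x * r * x⁻¹, h1 r r.2⟩
  have hf : Function.Injective f := by
    intro r r' hrr
    have e : x * (r : G) * x⁻¹ = x * r' * x⁻¹ := congrArg Subtype.val hrr
    exact Subtype.ext (mul_left_cancel (mul_right_cancel e))
  have hf' := Finite.surjective_of_injective hf
  rw [mem_normalizer_iff]
  intro r
  refine ⟨h1 r, fun hr => ?_⟩
  obtain ⟨r', hr'⟩ := hf' ⟨_, hr⟩
  have e : x * (r' : G) * x⁻¹ = x * r * x⁻¹ := congrArg Subtype.val hr'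
  have e2 : (r' : G) = r := mul_left_cancel (mul_right_cancel e)
  rw [← e2]; exact r'.2

omit M in
/-- `C_V(Q) = R` -/
theorem CVQ {z : G} (hz : z ∈ V) (h : ∀ y ∈ Q, y * z = z * y) : z ∈ R := by
  obtain ⟨a, b, d, rfl⟩ := I.v_surj z hz
  have h0 : ∀ l : F, T.tr (T.sg l * b) + T.nm l * d = 0 ∧ l * algebraMap k F d = 0 := by
    intro l
    obtain ⟨y, hy, hp⟩ := I.p_surj l
    have h1 : y * v a b d * y⁻¹ = v a b d := by rw [h y hy]; group
    rw [I.act y hy, hp] at h1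
    obtain ⟨h2, h3, -⟩ := I.v_eq h1
    constructor
    · rw [add_assoc] at h2
      exact left_eq_add.1 h2.symm
    · exact left_eq_add.1 h3.symm
  have hd : d = 0 := by
    have := (h0 1).2
    rw [one_mul] at this
    exact (map_eq_zero (algebraMap k F)).1 this
  have hb : b = 0 := by
    apply T.eq_zero_of_tr I.h2
    intro l
    have := (h0 (T.sg l)).1
    rw [hd, mul_zero, add_zero, T.sg_sg] at this
    rwa [mul_comm]
  rw [hb, hd]
  exact I.sp.a_mem a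

omit M in
/-- an element of `N(V)` which normalises `UX` normalises `R` -/
theorem NR_of_UX {x : G} (hxV : x ∈ normalizer (V : Set G)) (hx : cj x (UX V Q Q') = UX V Q Q') :
    x ∈ normalizer (R : Set G) := by
  -- `R = C_V(UX)`
  have hR : ∀ z, z ∈ R ↔ z ∈ V ∧ ∀ u ∈ UX V Q Q', u * z = z * u := by
    intro z
    constructor
    · intro hz
      refine ⟨I.R_V hz, fun u hu => ?_⟩
      obtain ⟨y, hy, b, hb, rfl⟩ := (mem_UX I).1 hu
      have h1 := I.sp.cen z hz y hy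
      have h2 := mem_centralizer_iff.1 (mem_inf.1 hb).2 z (I.R_V hz)
      rw [mul_assoc, ← h2, ← mul_assoc, ← h1, mul_assoc]
    · rintro ⟨hz, h⟩
      exact CVQ I hz fun y hy => h y (mem_sup_left hy)
  have key : ∀ x ∈ normalizer (V : Set G), cj x (UX V Q Q') = UX V Q Q' → ∀ z ∈ R, x * z * x⁻¹ ∈ R := by
    intro x hxV hx z hz
    obtain ⟨h1, h2⟩ := (hR z).1 hz
    refine (hR _).2 ⟨(mem_normalizer_iff.1 hxV _).1 h1, fun u hu => ?_⟩
    rw [← hx, mem_cj] at hu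
    have h3 := h2 _ hu
    calc u * (x * z * x⁻¹) = x * ((x⁻¹ * u * x) * z) * x⁻¹ := by group
      _ = x * (z * (x⁻¹ * u * x)) * x⁻¹ := by rw [h3]
      _ = x * z * x⁻¹ * u := by group
  rw [mem_normalizer_iff]
  intro z
  refine ⟨key x hxV hx z, fun hz => ?_⟩
  have hx' : cj x⁻¹ (UX V Q Q') = UX V Q Q' := by
    have := congrArg (cj x⁻¹) hx
    rw [cj_inv_cj] at this
    exact this.symm
  have := key x⁻¹ (inv_mem hxV) hx' _ hz
  rwa [show x⁻¹ * (x * z * x⁻¹) * x⁻¹⁻¹ = z by group] at this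

end gin

section fld

variable {T : Quad k F} {S : Sylow 2 G} {V R Q Q' : Subgroup G} {v : k → F → k → G} {p p' : G → F}
  {Φ : Type*} [AddCommGroup Φ] [Module F Φ] {φ χ : G → Φ} [Finite G]
  (I : GIn T S V R Q Q' v p p') (D : Fld T V R Q Q' v p φ χ) (Ex : Ext V R Q Q' p')
include I D Ex

/-- `N_X(R)` normalises `UX` -/
theorem UX_of_NR {x : G} (hx : x ∈ Q ⊔ Q') (hR : x ∈ normalizer (R : Set G)) :
    cj x (UX V Q Q') = UX V Q Q' := by
  have h1 : UX V Q Q' = Q ⊔ OX V Q Q' := by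
    refine le_antisymm (sup_le_sup_left le_sup_right _) (sup_le le_sup_left (OX_le_UX I))
  have hQ : cj x Q = Q := by
    rw [← mem_norm_iff, mem_normalizer_iff]
    intro y
    refine ⟨I.nor x hR y, fun h => ?_⟩
    have := I.nor x⁻¹ (inv_mem hR) _ h
    rwa [show x⁻¹ * (x * y * x⁻¹) * x⁻¹⁻¹ = y by group] at this
  rw [h1, cj_sup, hQ, mem_norm_iff.1 (X_OX I D Ex hx)]

theorem UX_iff {x : G} (hx : x ∈ Q ⊔ Q') :
    cj x (UX V Q Q') = UX V Q Q' ↔ x ∈ normalizer (R : Set G) :=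
  ⟨NR_of_UX I (X_NV I hx), UX_of_NR I D Ex hx⟩

variable {m₀ : G} (M : Mz T v Q Q' m₀)
include M

/-- **the positions**: `x ∈ X` either normalises `R` or is in `Q m₀ N_X(R)` -/
theorem pos {x : G} (hx : x ∈ Q ⊔ Q') :
    x ∈ normalizer (R : Set G) ∨ ∃ y ∈ Q, ∃ x' ∈ Q ⊔ Q', x' ∈ normalizer (R : Set G) ∧ x = y * m₀ * x' := by
  obtain ⟨A, hA, hA1, -⟩ := exists_mat I D Ex hx
  -- the action on `R`
  have key : ∀ a, x * v a 0 0 * x⁻¹ = v (T.nm (A 0 0) * a) (A 0 0 * T.sg (A 1 0) * algebraMap k F a)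
      (T.nm (A 1 0) * a) := by
    intro a
    obtain ⟨a', b', d', e1, e2⟩ := hA1 a 0 0
    rw [e1]
    unfold mu st at e2
    have e3 := congrFun (congrFun e2 0) 0
    have e4 := congrFun (congrFun e2 0) 1
    have e5 := congrFun (congrFun e2 1) 1
    simp [Matrix.mul_apply, Fin.sum_univ_two] at e3 e4 e5
    congr 1
    · apply T.alg_inj'
      rw [e3, map_mul, T.nm_eq]; ring
    · rw [e4]; ring
    · apply T.alg_inj'
      rw [e5, map_mul, T.nm_eq]; ring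
  by_cases hγ : A 1 0 = 0
  · left
    refine mem_NR_of I fun a => ⟨T.nm (A 0 0) * a, ?_⟩
    rw [key, hγ, map_zero, mul_zero, zero_mul, T.nm_zero, zero_mul]
  · right
    obtain ⟨y, hy, hpy⟩ := I.p_surj (A 0 0 / A 1 0)
    refine ⟨y⁻¹, inv_mem hy, m₀⁻¹ * (y * x), mul_mem (inv_mem M.mem) (mul_mem (mem_sup_left hy) hx), ?_,
      by group⟩
    refine mem_NR_of I fun a => ⟨T.nm (A 1 0) * a, ?_⟩
    have hs : T.sg (A 1 0) ≠ 0 := T.sg_ne' hγ
    have e1 : y * (x * v a 0 0 * x⁻¹) * y⁻¹ = v 0 0 (T.nm (A 1 0) * a) := by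
      rw [key, I.act y hy, hpy]
      congr 1
      · have h1 : T.sg (A 0 0 / A 1 0) * (A 0 0 * T.sg (A 1 0) * algebraMap k F a) =
            algebraMap k F (T.nm (A 0 0) * a) := by
          rw [map_div₀, map_mul, T.nm_eq]
          field_simp
        have h2 : T.nm (A 0 0 / A 1 0) * (T.nm (A 1 0) * a) = T.nm (A 0 0) * a := by
          rw [← mul_assoc, ← T.nm_mul, div_mul_cancel₀ _ hγ]
        rw [h1, h2, T.tr_alg I.h2, add_zero, T.add_selfk (h2 := I.h2)]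
      · have h1 : A 0 0 / A 1 0 * algebraMap k F (T.nm (A 1 0) * a) =
            A 0 0 * T.sg (A 1 0) * algebraMap k F a := by
          rw [map_mul, T.nm_eq]
          field_simp
        rw [h1, T.add_self (h2 := I.h2)]
    have e2 : m₀⁻¹ * (y * x) * v a 0 0 * (m₀⁻¹ * (y * x))⁻¹ = m₀⁻¹ * (y * (x * v a 0 0 * x⁻¹) * y⁻¹) * m₀ := by
      group
    rw [e2, e1, M.inv_act I, map_zero]

/-- `X` moves `UX`: the form of `x` -/
theorem form_of {x : G} (hx : x ∈ Q ⊔ Q') (hne : cj x (UX V Q Q') ≠ UX V Q Q') :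
    ∃ y ∈ Q, ∃ x' ∈ Q ⊔ Q', x' ∈ normalizer (R : Set G) ∧ x = y * m₀ * x' := by
  rcases pos I D Ex M hx with h | h
  · exact absurd (UX_of_NR I D Ex hx h) hne
  · exact h

theorem m₀_ne : cj m₀ (UX V Q Q') ≠ UX V Q Q' := fun h =>
  M.not_NR I (NR_of_UX I (M.NV I) h)

/-- `m₀ Q m₀⁻¹ ≤ Q'` -/
theorem m₀_Q : ∀ y ∈ Q, m₀ * y * m₀⁻¹ ∈ Q' :=
  exists_n I D Ex M.mem fun a => ⟨a, by rw [M.act, map_zero]⟩

end fld

end Cfsg.Agent.RankTwoClose.XSide

end

section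


/-!
# The group `X = ⟨Q, Q'⟩` (type beta): the fields `aX`, `sX`, ... of `QInput.QIn`
-/

set_option autoImplicit false
set_option linter.unusedSectionVars false

open Subgroup

namespace Cfsg.Agent.RankTwoClose.XSide

open Cfsg.Agent.Omega.NOne.SU Cfsg.Agent.RankTwoClose.UFour

variable {G : Type*} [Group G] {k F : Type*} [Field k] [Field F] [Algebra k F]

/-- the norm is onto -/
theorem nm_surj (T : Quad k F) (h2 : (2 : k) = 0) (c : k) : ∃ z : F, T.nm z = c := by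
  have := T.fink
  have hinj : Function.Injective (fun y : k => y * y) := by
    intro a b hab
    have h1 : (a - b) * (a - b) = 0 := by
      have h3 : (a - b) * (a - b) = a * a - b * b - 2 * (b * (a - b)) := by ring
      rw [h3, h2, zero_mul, sub_zero]
      exact sub_eq_zero.2 hab
    exact sub_eq_zero.1 (mul_self_eq_zero.1 h1)
  obtain ⟨e, he⟩ := Finite.surjective_of_injective hinj c
  refine ⟨algebraMap k F e, ?_⟩
  apply T.alg_inj'
  rw [T.nm_eq, T.sg_alg, ← map_mul]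
  exact congrArg _ he

section two

variable {T : Quad k F} {S : Sylow 2 G} {V R Q Q' : Subgroup G} {v : k → F → k → G} {p p' : G → F}
  (I : GIn T S V R Q Q' v p p') (Ex : Ext V R Q Q' p')
include I Ex

theorem Q'_two : IsPGroup 2 Q' := by
  obtain ⟨n, -, hn⟩ := Ex.sw
  rintro ⟨z, hz⟩
  have h1 : n⁻¹ * z * n ∈ Q := by
    refine (hn _).2 ?_
    rwa [show n * (n⁻¹ * z * n) * n⁻¹ = z by group]
  obtain ⟨j, hj⟩ := I.Q_two ⟨_, h1⟩
  have hj' : (n⁻¹ * z * n) ^ 2 ^ j = 1 := congrArg Subtype.val hj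
  refine ⟨j, Subtype.ext ?_⟩
  show z ^ 2 ^ j = 1
  have e : n⁻¹ * z * n = n⁻¹ * z * n⁻¹⁻¹ := by rw [inv_inv]
  rw [e, conj_pow] at hj'
  calc z ^ 2 ^ j = n * (n⁻¹ * z ^ 2 ^ j * n⁻¹⁻¹) * n⁻¹ := by group
    _ = 1 := by rw [hj']; group

theorem UX_two : IsPGroup 2 ↥(UX V Q Q') := by
  have h1 : UX V Q Q' = (Q' ⊓ centralizer (V : Set G)) ⊔ Q := sup_comm _ _
  rw [h1]
  exact IsPGroup.to_sup_of_normal_right' ((Q'_two I Ex).to_le inf_le_left) I.Q_two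
    (inf_le_right.trans (CV_norm_Q I))

end two

section fld

variable {T : Quad k F} {S : Sylow 2 G} {V R Q Q' : Subgroup G} {v : k → F → k → G} {p p' : G → F}
  {Φ : Type*} [AddCommGroup Φ] [Module F Φ] {φ χ : G → Φ} [Finite G]
  {hm : Φ → Φ → F} {W : Type*} [AddCommGroup W] [Module F W] {w : G → W}
  {g : W → W → F} {f₀ : W} {ι : Φ →ₗ[F] W}
  (O : Out T V R Q Q' v p φ χ hm w g f₀ ι)
  (I : GIn T S V R Q Q' v p p') (D : Fld T V R Q Q' v p φ χ) (Ex : Ext V R Q Q' p')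
  {m₀ : G} (M : Mz T v Q Q' m₀)

include I D Ex M in
/-- the torus moves everything -/
theorem tor_UX {t : G} (ht : t ∈ Q ⊔ Q') {z : F} (_hz : z ≠ 0)
    (hv : ∀ a b d, t * v a b d * t⁻¹ = v (T.nm z * a) (z * (T.sg z)⁻¹ * b) ((T.nm z)⁻¹ * d)) :
    cj t (UX V Q Q') = UX V Q Q' ∧ cj t (cj m₀ (UX V Q Q')) = cj m₀ (UX V Q Q') := by
  have h1 : t ∈ normalizer (R : Set G) := mem_NR_of I fun a => ⟨_, by rw [hv, mul_zero, mul_zero]⟩
  refine ⟨UX_of_NR I D Ex ht h1, ?_⟩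
  have h2 : m₀⁻¹ * t * m₀ ∈ normalizer (R : Set G) := mem_NR_of I fun a => ⟨(T.nm z)⁻¹ * a, by
    calc m₀⁻¹ * t * m₀ * v a 0 0 * (m₀⁻¹ * t * m₀)⁻¹
        = m₀⁻¹ * (t * (m₀ * v a 0 0 * m₀⁻¹) * t⁻¹) * m₀ := by group
      _ = v ((T.nm z)⁻¹ * a) 0 0 := by rw [M.act, hv, M.inv_act I]; simp⟩
  have h3 := UX_of_NR I D Ex (mul_mem (mul_mem (inv_mem M.mem) ht) M.mem) h2
  have e : t * m₀ = m₀ * (m₀⁻¹ * t * m₀) := by group
  rw [← cj_mul, e, cj_mul, h3]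

include I D Ex M in
/-- **`X` is a rank one group.** -/
theorem absX : PanOf.Abs (Q ⊔ Q') (UX V Q Q') (OX V Q Q') m₀ where
  UL := UX_le_X I
  QU := OX_le_UX I
  LQ := X_OX I D Ex
  two := UX_two I Ex
  nL := M.mem
  trans x hx := by
    rcases pos I D Ex M hx with h | ⟨y, hy, x', hx', hR, rfl⟩
    · exact Or.inl (UX_of_NR I D Ex hx h)
    · right
      exact ⟨y, mem_sup_left hy, by rw [cj_mul, UX_of_NR I D Ex hx' hR]⟩
  ne := m₀_ne I D Ex M
  swap := by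
    rw [← cj_mul]
    exact UX_of_NR I D Ex (mul_mem M.mem M.mem) (CV_NR I (M.sq I))
  inter u hu h := by
    have h1 : cj (m₀⁻¹ * u * m₀) (UX V Q Q') = UX V Q Q' := by
      rw [cj_mul, cj_mul, h, cj_inv_cj]
    have h2 := NR_of_UX I (X_NV I (mul_mem (mul_mem (inv_mem M.mem) (UX_le_X I hu)) M.mem)) h1
    obtain ⟨y, hy, b, hb, rfl⟩ := (mem_UX I).1 hu
    have h3 := (mem_normalizer_iff.1 h2 _).1 (I.sp.a_mem 1)
    obtain ⟨a, e⟩ := I.mem_R.1 h3
    have hbV : b * v 0 0 1 * b⁻¹ = v 0 0 1 := by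
      rw [← mem_centralizer_iff.1 (mem_inf.1 hb).2 _ (I.v_mem 0 0 1)]; group
    have e2 : m₀⁻¹ * (y * b) * m₀ * v 1 0 0 * (m₀⁻¹ * (y * b) * m₀)⁻¹ =
        m₀⁻¹ * (y * (b * (m₀ * v 1 0 0 * m₀⁻¹) * b⁻¹) * y⁻¹) * m₀ := by group
    rw [e2, M.act, map_zero, hbV, I.act y hy, M.inv_act I] at e
    have h4 := (I.v_eq e).2.1
    rw [zero_add, map_one, mul_one] at h4
    have h5 : p y = 0 := by
      have := congrArg T.sg h4
      rwa [T.sg_sg, map_zero] at this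
    exact mul_mem (mem_sup_left (mem_inf.2 ⟨hy, (I.p_eq_zero hy).1 h5⟩)) (mem_sup_right hb)
  fix u hu h := by
    obtain ⟨y, hy, b, hb, rfl⟩ := (mem_UX I).1 hu
    -- a torus element with `z² ≠ 1`
    obtain ⟨z, hz0, hz1⟩ := T.exists_z I.h2
    have hz2 : z ≠ 1 := by rintro rfl; simp at hz1
    obtain ⟨t, ht, hv, hp, -, hn⟩ := D.tor z hz0
    obtain ⟨h1, h2⟩ := tor_UX I D Ex M ht hz0 hv
    have h3 := h t ht h1 h2
    obtain ⟨hyQ, hpy⟩ := hp y hy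
    -- in `C(V)`
    have htV := X_NV I ht
    have h4 : t * (y * b) * t⁻¹ * (y * b)⁻¹ ∈ centralizer (V : Set G) := OX_le_CV I h3
    have hb1 : t * b * t⁻¹ ∈ centralizer (V : Set G) := cen_conj I htV (mem_inf.1 hb).2
    have hb2 := (mem_inf.1 hb).2
    have h5 : (t * y * t⁻¹) * y⁻¹ ∈ centralizer (V : Set G) := by
      have e : (t * y * t⁻¹) * y⁻¹ = (t * (y * b) * t⁻¹ * (y * b)⁻¹) *
          (y * (b * (t * b * t⁻¹)⁻¹) * y⁻¹) := by group
      rw [e]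
      exact mul_mem h4 (cen_conj I (I.Q_NV hy) (mul_mem hb2 (inv_mem hb1)))
    have h6 := (I.p_eq_zero (mul_mem hyQ (inv_mem hy))).2 h5
    rw [I.p_add _ hyQ _ (inv_mem hy), I.p_inv hy, hpy] at h6
    have h7 : (z + 1) ^ 2 * p y = 0 := by
      have : (z + 1) ^ 2 * p y = (z ^ 2 * p y + p y) + (z * p y + z * p y) := by ring
      rw [this, h6, T.add_self (h2 := I.h2), add_zero]
    have h8 : p y = 0 := by
      rcases mul_eq_zero.1 h7 with h9 | h9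
      · exfalso
        apply hz2
        have h10 := pow_eq_zero_iff (two_ne_zero) |>.1 h9
        calc z = z + (1 + 1) := by rw [T.add_self (h2 := I.h2), add_zero]
          _ = (z + 1) + 1 := by ring
          _ = 1 := by rw [h10, zero_add]
      · exact h9
    exact mul_mem (mem_sup_left (mem_inf.2 ⟨hy, (I.p_eq_zero hy).1 h8⟩)) (mem_sup_right hb)

include O I D Ex in
/-- `2`-elements of `N_X(R)` lie in `UX` -/
theorem two_NR {x : G} (hx : x ∈ Q ⊔ Q') (hR : x ∈ normalizer (R : Set G)) {j : ℕ}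
    (h2 : x ^ 2 ^ j = 1) : x ∈ UX V Q Q' := by
  obtain ⟨A, hA, hA1, -⟩ := exists_mat I D Ex hx
  -- `A 1 0 = 0`
  have hγ : A 1 0 = 0 := by
    obtain ⟨a', b', d', e1, e2⟩ := hA1 1 0 0
    have h3 := (mem_normalizer_iff.1 hR _).1 (I.sp.a_mem 1)
    obtain ⟨a, e⟩ := I.mem_R.1 h3
    have e' : v a' b' d' = v a 0 0 := by rw [← e1, e]
    obtain ⟨-, -, rfl⟩ := I.v_eq e'
    unfold mu st at e2
    have e5 := congrFun (congrFun e2 1) 1
    simp [Matrix.mul_apply, Fin.sum_univ_two] at e5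
    exact e5
  -- the powers
  have hpow : ∀ i : ℕ, VAct T v (x ^ i) (A ^ i) ∧ (A ^ i) 1 0 = 0 ∧ (A ^ i) 0 0 = (A 0 0) ^ i := by
    intro i
    induction i with
    | zero => exact ⟨by rw [pow_zero, pow_zero]; exact VAct.one, by simp, by simp⟩
    | succ i ih =>
      obtain ⟨h1, h3, h4⟩ := ih
      refine ⟨by rw [pow_succ, pow_succ]; exact h1.mul hA1, ?_, ?_⟩
      · rw [pow_succ, Matrix.mul_apply, Fin.sum_univ_two, h3, hγ, zero_mul, mul_zero, add_zero]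
      · rw [pow_succ, Matrix.mul_apply, Fin.sum_univ_two, h4, hγ, mul_zero, add_zero, pow_succ]
  obtain ⟨h3, -, h4⟩ := hpow (2 ^ j)
  rw [h2] at h3
  have h5 := VAct.eq_one I h3 (by rw [Matrix.det_pow, hA, one_pow]) (one_mem _)
  rw [h5, Matrix.one_apply_eq] at h4
  have hc : CharP F 2 := CharTwo.of_one_ne_zero_of_two_eq_zero one_ne_zero (T.twoF I.h2)
  have h6 : A 0 0 = 1 := by
    have h7 : (A 0 0 - 1) ^ 2 ^ j = 0 := by
      have := sub_pow_char_pow (R := F) (p := 2) (x := A 0 0) (y := 1) (n := j)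
      rw [this, ← h4, one_pow, sub_self]
    exact sub_eq_zero.1 (pow_eq_zero_iff (by positivity) |>.1 h7)
  have h7 : A 1 1 = 1 := by
    rw [Matrix.det_fin_two, h6, hγ, mul_zero, sub_zero, one_mul] at hA
    exact hA
  obtain ⟨y, hy, hpy⟩ := I.p_surj (A 0 1)
  -- `y x` is trivial on `V`
  have h8 : y * x ∈ centralizer (V : Set G) := by
    have h9 := (VAct_Q I hy).mul hA1
    have h10 : !![1, p y; 0, 1] * A = 1 := by
      ext i' j'
      fin_cases i' <;> fin_cases j'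
      · simp [Matrix.mul_apply, Fin.sum_univ_two, h6, hγ]
      · simp [Matrix.mul_apply, Fin.sum_univ_two, h7, hpy]
        exact T.add_self (h2 := I.h2) _
      · simp [Matrix.mul_apply, Fin.sum_univ_two, hγ]
      · simp [Matrix.mul_apply, Fin.sum_univ_two, h7]
    rw [h10] at h9
    rw [mem_centralizer_iff]
    intro z hz
    obtain ⟨a, b, d, rfl⟩ := I.v_surj z hz
    obtain ⟨a', b', d', e1, e2⟩ := h9 a b d
    have h11 : st T (1 : Matrix (Fin 2) (Fin 2) F) = 1 := by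
      unfold st
      rw [Matrix.map_one _ (map_zero _) (map_one _), Matrix.transpose_one]
    rw [h11, Matrix.one_mul, Matrix.mul_one] at e2
    unfold mu at e2
    have e3 := congrFun (congrFun e2 0) 0
    have e4 := congrFun (congrFun e2 0) 1
    have e5 := congrFun (congrFun e2 1) 1
    simp at e3 e4 e5
    rw [e3, e4, e5] at e1
    calc v a b d * (y * x) = (y * x * v a b d * (y * x)⁻¹) * (y * x) := by rw [e1]
      _ = _ := by group
  have h9 := CX_le O I D Ex (mul_mem (mem_sup_left hy) hx) h8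
  have e : x = y⁻¹ * (y * x) := by group
  rw [e]
  exact mul_mem (mem_sup_left (inv_mem hy)) (OX_le_UX I h9)

include O I D Ex in
/-- **`UX` is a Sylow `2`-subgroup of `X`.** -/
theorem sylX (P : Subgroup G) (hP : P ≤ Q ⊔ Q') (h2 : IsPGroup 2 P) (hU : UX V Q Q' ≤ P) :
    P ≤ UX V Q Q' := by
  by_contra hcon
  have : Fact (Nat.Prime 2) := ⟨Nat.prime_two⟩
  have hnil := h2.isNilpotent
  have hlt : (UX V Q Q').subgroupOf P < ⊤ := by
    rw [lt_top_iff_ne_top]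
    intro h
    rw [subgroupOf_eq_top] at h
    exact hcon h
  have h3 := Group.normalizerCondition_of_isNilpotent (G := P) _ hlt
  obtain ⟨⟨x, hxP⟩, hx1, hx2⟩ := SetLike.exists_of_lt h3
  apply hx2
  rw [mem_subgroupOf]
  show x ∈ UX V Q Q'
  have hxN : cj x (UX V Q Q') = UX V Q Q' := by
    rw [← mem_norm_iff]
    refine Central.mem_norm_of fun u hu => ?_
    have := (mem_normalizer_iff.1 hx1 ⟨u, hU hu⟩).1 (mem_subgroupOf.2 hu)
    exact mem_subgroupOf.1 this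
  obtain ⟨j, hj⟩ := h2 ⟨x, hxP⟩
  exact two_NR O I D Ex (hP hxP) (NR_of_UX I (X_NV I (hP hxP)) hxN) (congrArg Subtype.val hj)

end fld

end Cfsg.Agent.RankTwoClose.XSide

end

section


/-!
# The group `X = ⟨Q, Q'⟩` (type beta): all the fields of `QInput.QIn` of the side `X`

`XFields X U Q O V R m₀` = the fields of `QInput.QIn` which do not mention `L` and `A`; valid for every dimension
of `Φ`.  `exists_XFields` : from `Out`, `GIn`, `Fld`, `Ext`, with `X = Q ⊔ Q'`, `U = UX V Q Q'`, `O = OX V Q Q'`.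
-/

set_option autoImplicit false
set_option linter.unusedSectionVars false

open Subgroup

namespace Cfsg.Agent.RankTwoClose.XSide

open Cfsg.Agent.Omega.NOne.SU Cfsg.Agent.RankTwoClose.UFour

/-- The fields of `QInput.QIn` of the side `X`. -/
structure XFields {G : Type*} [Group G] (X U Q O V R : Subgroup G) (m₀ : G) : Prop where
  aX : PanOf.Abs X U O m₀
  sX : ∀ P ≤ X, IsPGroup 2 P → U ≤ P → P ≤ U
  /-- `N(V)` normalises `X` -/
  NX : normalizer (V : Set G) ≤ normalizer (X : Set G)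
  /-- `N(V) ∩ N(U)` normalises `R` -/
  XR : ∀ g ∈ normalizer (V : Set G), cj g U = U → g ∈ normalizer (R : Set G)
  RV : R ≤ V
  VU : V ≤ U
  XV : X ≤ normalizer (V : Set G)
  OV : ∀ x ∈ O, ∀ v ∈ V, x * v = v * x
  CO : ∀ u ∈ U, (∀ v ∈ V, u * v = v * u) → u ∈ O
  CX : ∀ x ∈ X, (∀ v ∈ V, x * v = v * x) → x ∈ O
  QQ : ∀ g ∈ X, cj g U ≠ U → Q ⊓ cj g Q ≤ V
  RQ : ∀ g ∈ X, cj g U ≠ U → cj g R ⊓ Q = ⊥
  VR : ∀ g ∈ X, cj g U ≠ U → V ≤ cj g R ⊔ Q
  cE : ∀ g ∈ X, cj g U ≠ U → O.relIndex U ≤ Nat.card ↥((V ⊓ Q) ⊓ cj g (V ⊓ Q))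
  tr : ∀ z₀ ∈ R, z₀ ≠ 1 → ∀ z ∈ R, z ≠ 1 → ∃ h, (∀ x ∈ Q, h * x * h⁻¹ ∈ Q) ∧ h * z₀ * h⁻¹ = z
  fixR : ∀ z ∈ R, (∀ g ∈ X, cj g U = U → g * z = z * g) → z = 1
  pair : ∃ a ∈ R, ∃ b ∈ R, a ≠ 1 ∧ b ≠ 1 ∧ a ≠ b

variable {G : Type*} [Group G] {k F : Type*} [Field k] [Field F] [Algebra k F]

/-- there is a scalar `s ≠ 0, 1` -/
theorem exists_s (T : Quad k F) : ∃ s : k, s ≠ 0 ∧ s ≠ 1 := by
  have := T.fink
  by_contra hcon
  push Not at hcon
  have h1 : Nat.card k ≤ Nat.card Bool := by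
    classical
    apply Nat.card_le_card_of_injective (fun s : k => decide (s = 0))
    intro a b hab
    simp only [decide_eq_decide] at hab
    by_cases ha : a = 0
    · rw [ha, hab.1 ha]
    · rw [hcon a ha, hcon b (fun hb => ha (hab.2 hb))]
  have h2 := T.four
  have h3 : Nat.card Bool = 2 := by simp
  omega

section gin

variable {T : Quad k F} {S : Sylow 2 G} {V R Q Q' : Subgroup G} {v : k → F → k → G} {p p' : G → F}
  (I : GIn T S V R Q Q' v p p')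
include I

theorem v_one : v 0 0 0 = 1 := by
  have h := I.v_add 0 0 0 0 0 0
  rw [add_zero, add_zero] at h
  exact left_eq_mul.1 h

/-- `N(R)` normalises `Q` -/
theorem NR_NQ : normalizer (R : Set G) ≤ normalizer (Q : Set G) := fun x hx =>
  mem_normalizer_iff.2 fun y => ⟨I.nor x hx y, fun h => by
    have := I.nor x⁻¹ (inv_mem hx) _ h
    rwa [show x⁻¹ * (x * y * x⁻¹) * x⁻¹⁻¹ = y by group] at this⟩

/-- `V ∩ Q = {v a b 0}` -/
theorem mem_VQ {z : G} : z ∈ V ⊓ Q ↔ ∃ a b, z = v a b 0 :=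
  ⟨fun h => mem_E I (mem_inf.1 h).1 (mem_inf.1 h).2, by
    rintro ⟨a, b, rfl⟩
    exact mem_inf.2 ⟨I.v_mem _ _ _, I.E_le _ _⟩⟩

theorem pair_R : ∃ a ∈ R, ∃ b ∈ R, a ≠ 1 ∧ b ≠ 1 ∧ a ≠ b := by
  obtain ⟨s, hs0, hs1⟩ := exists_s T
  refine ⟨v 1 0 0, I.sp.a_mem 1, v s 0 0, I.sp.a_mem s, fun h => ?_, fun h => ?_, fun h => ?_⟩
  · exact one_ne_zero (I.v_inj _ _ _ h).1
  · exact hs0 (I.v_inj _ _ _ h).1
  · exact hs1 (I.v_eq h).1.symm

/-- `N(V)` normalises `X` -/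
theorem NV_NX (Ex : Ext V R Q Q' p') :
    normalizer (V : Set G) ≤ normalizer ((Q ⊔ Q' : Subgroup G) : Set G) := by
  obtain ⟨n, hn, hnQ⟩ := Ex.sw
  have hnV : n ∈ normalizer (V : Set G) := X_NV I hn
  have key : ∀ m ∈ normalizer (V : Set G), ∀ y ∈ Q, m * y * m⁻¹ ∈ Q ⊔ Q' := by
    intro m hm y hy
    obtain ⟨x, hx, hxm⟩ := Ex.MX m hm
    have h1 := I.nor _ hxm y hy
    have h2 : m * y * m⁻¹ = x⁻¹ * ((x * m) * y * (x * m)⁻¹) * x := by group
    rw [h2]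
    exact mul_mem (mul_mem (inv_mem hx) (mem_sup_left h1)) hx
  have key' : ∀ m ∈ normalizer (V : Set G), ∀ y ∈ Q', m * y * m⁻¹ ∈ Q ⊔ Q' := by
    intro m hm y hy
    have h1 : n⁻¹ * y * n ∈ Q := by
      rw [hnQ]
      rwa [show n * (n⁻¹ * y * n) * n⁻¹ = y by group]
    have h2 := key (m * n) (mul_mem hm hnV) _ h1
    rwa [show m * n * (n⁻¹ * y * n) * (m * n)⁻¹ = m * y * m⁻¹ by group] at h2
  have hle : ∀ m ∈ normalizer (V : Set G), cj m (Q ⊔ Q') ≤ Q ⊔ Q' := by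
    intro m hm
    rw [cj_sup]
    refine sup_le ?_ ?_
    · rintro _ ⟨y, hy, rfl⟩
      exact key m hm y hy
    · rintro _ ⟨y, hy, rfl⟩
      exact key' m hm y hy
  intro m hm
  rw [mem_norm_iff]
  refine le_antisymm (hle m hm) fun x hx => ?_
  rw [mem_cj]
  have := hle m⁻¹ (inv_mem hm) (conj_mem_cj hx)
  rwa [inv_inv] at this

end gin

section fld

variable {T : Quad k F} {S : Sylow 2 G} {V R Q Q' : Subgroup G} {v : k → F → k → G} {p p' : G → F}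
  {Φ : Type*} [AddCommGroup Φ] [Module F Φ] {φ χ : G → Φ} [Finite G]
  (I : GIn T S V R Q Q' v p p') (D : Fld T V R Q Q' v p φ χ) (Ex : Ext V R Q Q' p')
  {m₀ : G} (M : Mz T v Q Q' m₀)

/-- `|U : O| ≤ |F|` -/
theorem relIndex_le (I : GIn T S V R Q Q' v p p') : (OX V Q Q').relIndex (UX V Q Q') ≤ Nat.card F := by
  have := T.finF
  have key : ∀ u : UX V Q Q', ∃ l : F, ∃ y ∈ Q, ∃ b ∈ Q' ⊓ centralizer (V : Set G), (u : G) = y * b ∧ p y = l := by
    rintro ⟨u, hu⟩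
    obtain ⟨y, hy, b, hb, e⟩ := (mem_UX I).1 hu
    exact ⟨p y, y, hy, b, hb, e, rfl⟩
  choose f hf using key
  have hinj : ∀ u u' : UX V Q Q', f u = f u' → u⁻¹ * u' ∈ (OX V Q Q').subgroupOf (UX V Q Q') := by
    intro u u' h
    obtain ⟨y, hy, b, hb, e1, e2⟩ := hf u
    obtain ⟨y', hy', b', hb', e1', e2'⟩ := hf u'
    rw [mem_subgroupOf]
    have h1 : ((u⁻¹ * u' : UX V Q Q') : G) = b⁻¹ * (y⁻¹ * y') * b' := by
      rw [Subgroup.coe_mul, Subgroup.coe_inv, e1, e1']; group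
    rw [h1]
    have h2 : y⁻¹ * y' ∈ Q ⊓ centralizer (V : Set G) := by
      refine mem_inf.2 ⟨mul_mem (inv_mem hy) hy', ?_⟩
      rw [← I.p_eq_zero (mul_mem (inv_mem hy) hy'), I.p_add _ (inv_mem hy) _ hy', I.p_inv hy, e2, e2', h,
        T.add_self (h2 := I.h2)]
    exact mul_mem (mul_mem (mem_sup_right (inv_mem hb)) (mem_sup_left h2)) (mem_sup_right hb')
  show ((OX V Q Q').subgroupOf (UX V Q Q')).index ≤ _
  rw [Subgroup.index]
  apply Nat.card_le_card_of_injective (fun q : UX V Q Q' ⧸ (OX V Q Q').subgroupOf (UX V Q Q') => f q.out)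
  intro q q' h
  have h1 := hinj _ _ h
  rw [← QuotientGroup.eq] at h1
  rwa [QuotientGroup.out_eq', QuotientGroup.out_eq'] at h1

include I D Ex M

/-- the conjugates by `g ∈ X - N(U)` -/
theorem cj_form {x : G} (hx : x ∈ Q ⊔ Q') (hne : cj x (UX V Q Q') ≠ UX V Q Q') :
    ∃ y ∈ Q, cj x Q = cj y (cj m₀ Q) ∧ cj x R = cj y (cj m₀ R) ∧
      cj x (V ⊓ Q) = cj y (cj m₀ (V ⊓ Q)) := by
  obtain ⟨y, hy, x', hx', hR, rfl⟩ := form_of I D Ex M hx hne
  refine ⟨y, hy, ?_, ?_, ?_⟩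
  · rw [cj_mul, cj_mul, mem_norm_iff.1 (NR_NQ I hR)]
  · rw [cj_mul, cj_mul, mem_norm_iff.1 hR]
  · rw [cj_mul, cj_mul, cj_inf x', mem_norm_iff.1 (NR_NQ I hR), mem_norm_iff.1 (X_NV I hx')]

theorem QQ {x : G} (hx : x ∈ Q ⊔ Q') (hne : cj x (UX V Q Q') ≠ UX V Q Q') : Q ⊓ cj x Q ≤ V := by
  obtain ⟨y, hy, e, -, -⟩ := cj_form I D Ex M hx hne
  rw [e]
  intro z hz
  obtain ⟨h1, h2⟩ := mem_inf.1 hz
  rw [mem_cj, mem_cj] at h2
  have h3 : y⁻¹ * z * y ∈ Q' := by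
    have := m₀_Q I D Ex M _ h2
    rwa [show m₀ * (m₀⁻¹ * (y⁻¹ * z * y) * m₀) * m₀⁻¹ = y⁻¹ * z * y by group] at this
  have h4 : y⁻¹ * z * y ∈ V := meet_V I (mem_inf.2 ⟨mul_mem (mul_mem (inv_mem hy) h1) hy, h3⟩)
  have h5 := (mem_normalizer_iff.1 (I.Q_NV hy) _).1 h4
  rwa [show y * (y⁻¹ * z * y) * y⁻¹ = z by group] at h5

theorem mem_mR {z : G} : z ∈ cj m₀ R ↔ ∃ d, z = v 0 0 d := by
  have _ := D
  have _ := Ex
  rw [mem_cj]
  constructor
  · intro h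
    obtain ⟨a, ha⟩ := I.mem_R.1 h
    refine ⟨a, ?_⟩
    have : z = m₀ * (m₀⁻¹ * z * m₀) * m₀⁻¹ := by group
    rw [this, ha, M.act, map_zero]
  · rintro ⟨d, rfl⟩
    rw [M.inv_act I, map_zero]
    exact I.sp.a_mem d

theorem RQ {x : G} (hx : x ∈ Q ⊔ Q') (hne : cj x (UX V Q Q') ≠ UX V Q Q') : cj x R ⊓ Q = ⊥ := by
  obtain ⟨y, hy, -, e, -⟩ := cj_form I D Ex M hx hne
  rw [eq_bot_iff, e]
  intro z hz
  obtain ⟨h1, h2⟩ := mem_inf.1 hz
  rw [mem_cj] at h1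
  obtain ⟨d, hd⟩ := (mem_mR I D Ex M).1 h1
  have h3 : y⁻¹ * z * y ∈ Q := mul_mem (mul_mem (inv_mem hy) h2) hy
  rw [hd] at h3
  obtain rfl := I.V_Q _ _ _ h3
  rw [v_one I] at hd
  rw [mem_bot]
  calc z = y * (y⁻¹ * z * y) * y⁻¹ := by group
    _ = 1 := by rw [hd]; group

theorem VR {x : G} (hx : x ∈ Q ⊔ Q') (hne : cj x (UX V Q Q') ≠ UX V Q Q') : V ≤ cj x R ⊔ Q := by
  obtain ⟨y, hy, -, e, -⟩ := cj_form I D Ex M hx hne
  rw [e]
  intro z hz
  obtain ⟨a, b, d, rfl⟩ := I.v_surj z hz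
  have h1 : y * v 0 0 d * y⁻¹ ∈ cj y (cj m₀ R) := conj_mem_cj ((mem_mR I D Ex M).2 ⟨d, rfl⟩)
  have h2 : v a b d = (y * v 0 0 d * y⁻¹) * ((y * v 0 0 d * y⁻¹)⁻¹ * v a b d) := by group
  rw [h2]
  refine mul_mem (mem_sup_left h1) (mem_sup_right ?_)
  rw [I.act y hy, I.v_inv, ← I.v_add, T.add_selfk (h2 := I.h2)]
  exact I.E_le _ _

theorem cE {x : G} (hx : x ∈ Q ⊔ Q') (hne : cj x (UX V Q Q') ≠ UX V Q Q') :
    (OX V Q Q').relIndex (UX V Q Q') ≤ Nat.card ↥((V ⊓ Q) ⊓ cj x (V ⊓ Q)) := by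
  obtain ⟨y, hy, -, -, e⟩ := cj_form I D Ex M hx hne
  refine (relIndex_le I).trans ?_
  rw [e]
  have h1 : ∀ b, y * v 0 b 0 * y⁻¹ ∈ (V ⊓ Q) ⊓ cj y (cj m₀ (V ⊓ Q)) := by
    intro b
    refine mem_inf.2 ⟨mem_inf.2 ⟨(mem_normalizer_iff.1 (I.Q_NV hy) _).1 (I.v_mem _ _ _),
      mul_mem (mul_mem hy (I.E_le _ _)) (inv_mem hy)⟩, conj_mem_cj ?_⟩
    rw [mem_cj, M.inv_act I]
    exact mem_inf.2 ⟨I.v_mem _ _ _, I.E_le _ _⟩
  apply Nat.card_le_card_of_injective (fun b : F => (⟨_, h1 b⟩ : ↥((V ⊓ Q) ⊓ cj y (cj m₀ (V ⊓ Q)))))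
  intro b b' h
  have h2 : y * v 0 b 0 * y⁻¹ = y * v 0 b' 0 * y⁻¹ := congrArg Subtype.val h
  exact (I.v_eq (mul_left_cancel (mul_right_cancel h2))).2.1

omit M Ex in
theorem tr {z₀ : G} (h0 : z₀ ∈ R) (h1 : z₀ ≠ 1) {z : G} (hz : z ∈ R) (hz1 : z ≠ 1) :
    ∃ h, (∀ x ∈ Q, h * x * h⁻¹ ∈ Q) ∧ h * z₀ * h⁻¹ = z := by
  obtain ⟨a, rfl⟩ := I.mem_R.1 h0
  obtain ⟨b, rfl⟩ := I.mem_R.1 hz
  have ha : a ≠ 0 := by
    rintro rfl
    exact h1 (v_one I)
  have hb : b ≠ 0 := by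
    rintro rfl
    exact hz1 (v_one I)
  obtain ⟨s, hs⟩ := nm_surj T I.h2 (b / a)
  have hs0 : s ≠ 0 := by
    rintro rfl
    rw [T.nm_zero] at hs
    exact div_ne_zero hb ha hs.symm
  obtain ⟨t, -, hv, hp, -, -⟩ := D.tor s hs0
  refine ⟨t, fun x hx => (hp x hx).1, ?_⟩
  rw [hv, hs, div_mul_cancel₀ _ ha, mul_zero, mul_zero]

theorem fixR {z : G} (hz : z ∈ R) (h : ∀ g ∈ Q ⊔ Q', cj g (UX V Q Q') = UX V Q Q' → g * z = z * g) :
    z = 1 := by
  obtain ⟨a, rfl⟩ := I.mem_R.1 hz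
  obtain ⟨c, hc0, hc1⟩ := exists_s T
  obtain ⟨s, hs⟩ := nm_surj T I.h2 c
  have hs0 : s ≠ 0 := by
    rintro rfl
    rw [T.nm_zero] at hs
    exact hc0 hs.symm
  obtain ⟨t, ht, hv, -, -, -⟩ := D.tor s hs0
  have h1 := h t ht (tor_UX I D Ex M ht hs0 hv).1
  have h2 := hv a 0 0
  rw [h1, mul_inv_cancel_right, hs] at h2
  have h3 := (I.v_eq h2).1
  have h4 : a = 0 := by
    by_contra h5
    apply hc1
    apply mul_right_cancel₀ h5
    rw [← h3, one_mul]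
  rw [h4, v_one I]

omit M in
/-- **All fields of the side `X`.** -/
theorem exists_XFields {hm : Φ → Φ → F} {W : Type*} [AddCommGroup W] [Module F W] {w : G → W}
    {g : W → W → F} {f₀ : W} {ι : Φ →ₗ[F] W} (O : Out T V R Q Q' v p φ χ hm w g f₀ ι) :
    ∃ m₀, XFields (Q ⊔ Q') (UX V Q Q') Q (OX V Q Q') V R m₀ := by
  obtain ⟨m₀, M⟩ := exists_mz I Ex
  exact ⟨m₀,
    { aX := absX I D Ex M
      sX := fun P hP h2 hU => sylX O I D Ex P hP h2 hU
      NX := NV_NX I Ex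
      XR := fun x hx h => NR_of_UX I hx h
      RV := I.R_V
      VU := (V_le_OX I).trans (OX_le_UX I)
      XV := X_NV I
      OV := fun x hx z hz => (mem_centralizer_iff.1 (OX_le_CV I hx) z hz).symm
      CO := fun u hu h => mem_OX_of I hu (mem_centralizer_iff.2 fun z hz => (h z hz).symm)
      CX := fun u hu h => CX_le O I D Ex hu (mem_centralizer_iff.2 fun z hz => (h z hz).symm)
      QQ := fun x hx h => QQ I D Ex M hx h
      RQ := fun x hx h => RQ I D Ex M hx h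
      VR := fun x hx h => VR I D Ex M hx h
      cE := fun x hx h => cE I D Ex M hx h
      tr := fun z₀ h0 h1 z hz hz1 => tr I D h0 h1 hz hz1
      fixR := fun z hz h => fixR I D Ex M hz h
      pair := pair_R I }⟩

end fld

end Cfsg.Agent.RankTwoClose.XSide

end

section


/-!
# `U₅(q)`: the two sides together

`qin` : `LSide` + `XFields` + a central element `z₀` of `S` in `R` with `O₂(C(z₀))` self-centralising ⟹
`QInput.QIn`; so `⟨L, X⟩` has a split `BN`-pair of rank two (`exists_split`).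
`NR_le`, `NV_le` : `N(R)` and `N(V)` normalise `⟨L, X⟩`.
-/

set_option autoImplicit false
set_option linter.unusedSectionVars false

open Subgroup

universe u

namespace Cfsg.Agent.RankTwoClose.UFive.Glue

open Cfsg.Agent.RankTwoClose.UFour Cfsg.Agent.RankTwoClose.QInput Cfsg.Agent.Omega.RootLemma
open Cfsg.Agent.RankTwoClose.UFive.LSide Cfsg.Agent.RankTwoClose.XSide

/-- `O₂(C(z))` contains its centraliser -/
def Char2At {G : Type u} [Group G] (z : G) : Prop :=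
  ∃ N : Subgroup G, (∀ x ∈ N, x * z = z * x) ∧ IsPGroup 2 N ∧
    (∀ d, d * z = z * d → ∀ x ∈ N, d * x * d⁻¹ ∈ N) ∧
    (∀ d, d * z = z * d → (∀ x ∈ N, d * x = x * d) → d ∈ N)

section sides

variable {G : Type u} [Group G] {S : Sylow 2 G} {L X U Q O V R A : Subgroup G} {n₀ m₀ w₀ : G}
  (l : LSide S L U Q V R A n₀ w₀) (x : XFields X U Q O V R m₀)
include l x

theorem L_NR : L ≤ normalizer (R : Set G) := by
  have _ := x
  intro g hg
  rw [mem_normalizer_iff]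
  have h1 : ∀ z ∈ R, g * z * g⁻¹ = z := fun z hz => by rw [l.LR g hg z hz]; group
  intro z
  constructor
  · intro hz; rw [h1 z hz]; exact hz
  · intro hz
    have h2 := l.LR g hg _ hz
    have h3 : z = g * z * g⁻¹ := by
      calc z = g⁻¹ * (g * z * g⁻¹ * g) := by group
        _ = g⁻¹ * (g * (g * z * g⁻¹)) := by rw [h2]
        _ = _ := by group
    rw [h3]; exact hz

/-- `N(R) ∩ N(U)` normalises `X` -/
theorem LX {g : G} (hg : g ∈ normalizer (R : Set G)) (hU : cj g U = U) : cj g X = X :=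
  mem_norm_iff.1 (x.NX (mem_norm_iff.2 (l.NV g hg hU)))

theorem qin {z₀ : G} (hz : z₀ ∈ R) (hz1 : z₀ ≠ 1) (hzS : ∀ s ∈ S, s * z₀ = z₀ * s) (hc : Char2At z₀) :
    QIn S L X U Q O V R A n₀ m₀ z₀ w₀ where
  aL := l.aL
  aX := x.aX
  sL := l.sL
  sX := x.sX
  US := l.US
  SL := l.SL
  LX g hg hU := LX l x (L_NR l x hg) hU
  LV := l.LV
  XL g hg hU := mem_norm_iff.1 (l.NL (x.XR g (x.XV hg) hU))
  RV := x.RV
  VU := x.VU
  XV := x.XV
  OV := x.OV
  CO := x.CO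
  LR := l.LR
  comm := l.comm
  sq := l.sq
  irr := l.irr
  QQ := x.QQ
  RQ := x.RQ
  VR := x.VR
  cE := x.cE
  opp := l.opp
  cD := l.cD
  ruling := l.ruling
  AL := l.AL
  AU := l.AU
  Aodd := l.Aodd
  Aab := l.Aab
  AB := l.AB
  wQ := l.wQ
  cyc := l.cyc
  cent := l.cent
  z₀R := hz
  z₀1 := hz1
  z₀S := hzS
  c2 := hc
  tr := x.tr z₀ hz hz1
  fixR := x.fixR
  pair := x.pair

/-- **`⟨L, X⟩` has a split `BN`-pair of rank two.** -/
theorem exists_split [Finite G] {z₀ : G} (hz : z₀ ∈ R) (hz1 : z₀ ≠ 1) (hzS : ∀ s ∈ S, s * z₀ = z₀ * s)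
    (hc : Char2At z₀) (hB : Bender.{u}) : ∃ P : Cfsg.BNPair ↥(L ⊔ X), P.rank = 2 ∧ P.IsSplit :=
  (qin l x hz hz1 hzS hc).exists_split hB

/-- the Frattini argument: `U` a Sylow `2`-subgroup of `Y`, `g ∈ N(Y)` -/
theorem frattini [Finite G] {Y : Subgroup G} (hU : U ≤ Y) (h2 : IsPGroup 2 U)
    (hs : ∀ P ≤ Y, IsPGroup 2 P → U ≤ P → P ≤ U) {g : G} (hg : cj g Y = Y) :
    ∃ y ∈ Y, cj (y * g) U = U := by
  have : Fact (Nat.Prime 2) := ⟨Nat.prime_two⟩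
  let P : Sylow 2 Y :=
    { U.subgroupOf Y with
      isPGroup' := h2.comap_subtype
      is_maximal' := by
        intro T hT hle
        refine le_antisymm (fun t ht => ?_) hle
        have h3 := hs (T.map Y.subtype) (by
            rintro _ ⟨y, -, rfl⟩
            exact y.2) (hT.map _) (by
            intro u hu
            exact ⟨⟨u, hU hu⟩, hle (mem_subgroupOf.2 hu), rfl⟩)
        exact mem_subgroupOf.2 (h3 ⟨t, ht, rfl⟩) }
  have hP : (P : Subgroup Y) = U.subgroupOf Y := rfl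
  have hgU : cj g U ≤ Y := by rw [← hg]; exact cj_mono hU
  obtain ⟨P', hP'⟩ : ∃ P' : Sylow 2 Y, (cj g U).subgroupOf Y ≤ P' :=
    (IsPGroup.comap_subtype (h2.map _)).exists_le_sylow
  obtain ⟨y, hy⟩ := MulAction.exists_smul_eq Y P' P
  refine ⟨y, y.2, ?_⟩
  have h3 : cj (y * g) U ≤ U := by
    intro z hz
    rw [cj_mul] at hz
    have h4 : (y : G)⁻¹ * z * y ∈ cj g U := mem_cj.1 hz
    have h5 : (⟨(y : G)⁻¹ * z * y, hgU h4⟩ : Y) ∈ P' := hP' (mem_subgroupOf.2 h4)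
    have h6 : y * ⟨(y : G)⁻¹ * z * y, hgU h4⟩ * y⁻¹ ∈ P := by
      rw [← hy]
      exact Subgroup.smul_mem_pointwise_smul _ (MulAut.conj y) (P' : Subgroup Y) h5
    have h7 : (y * ⟨(y : G)⁻¹ * z * y, hgU h4⟩ * y⁻¹ : Y) ∈ U.subgroupOf Y := h6
    have h8 := mem_subgroupOf.1 h7
    have e : ((y * ⟨(y : G)⁻¹ * z * y, hgU h4⟩ * y⁻¹ : Y) : G) = z := by
      show (y : G) * ((y : G)⁻¹ * z * y) * (y : G)⁻¹ = z
      group
    rwa [e] at h8
  exact Subgroup.eq_of_le_of_card_ge h3 (by rw [card_cj])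

/-- **`N(R)` normalises `⟨L, X⟩`.** -/
theorem NR_le [Finite G] : normalizer (R : Set G) ≤ normalizer ((L ⊔ X : Subgroup G) : Set G) := by
  intro g hg
  obtain ⟨y, hy, hyU⟩ := frattini l x l.aL.UL l.aL.two l.sL (mem_norm_iff.1 (l.NL hg))
  have h1 : y * g ∈ normalizer (R : Set G) := mul_mem (L_NR l x hy) hg
  have h2 : y * g ∈ normalizer ((L ⊔ X : Subgroup G) : Set G) := by
    rw [mem_norm_iff, cj_sup, mem_norm_iff.1 (l.NL h1), LX l x h1 hyU]
  have h3 : g = y⁻¹ * (y * g) := by group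
  rw [h3]
  exact mul_mem (inv_mem (le_normalizer (mem_sup_left hy))) h2

/-- **`N(V)` normalises `⟨L, X⟩`.** -/
theorem NV_le [Finite G] : normalizer (V : Set G) ≤ normalizer ((L ⊔ X : Subgroup G) : Set G) := by
  intro g hg
  obtain ⟨y, hy, hyU⟩ := frattini l x x.aX.UL x.aX.two x.sX (mem_norm_iff.1 (x.NX hg))
  have h1 : y * g ∈ normalizer (V : Set G) := mul_mem (x.XV hy) hg
  have h2 : y * g ∈ normalizer ((L ⊔ X : Subgroup G) : Set G) := by
    rw [mem_norm_iff, cj_sup, mem_norm_iff.1 (l.NL (x.XR _ h1 hyU)), mem_norm_iff.1 (x.NX h1)]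
  have h3 : g = y⁻¹ * (y * g) := by group
  rw [h3]
  exact mul_mem (inv_mem (le_normalizer (mem_sup_right hy))) h2

end sides

end Cfsg.Agent.RankTwoClose.UFive.Glue

end
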